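import Mathlib.GroupTheory.Sylow

/-!
# Subgroups of prescribed order in a lattice of normal subgroups
-/

set_option autoImplicit false

namespace CfsgLib.FusionWeakEmb

variable {Ω : Type*} [Group Ω] {p : ℕ} [Fact p.Prime]

/-- A subgroup of a given prime power order between two given subgroups. -/
theorem exists_between {K L : Subgroup Ω} [Finite L] (hL : IsPGroup p L) (hKL : K ≤ L) {d : ℕ}
    (hK : Nat.card K ≤ p ^ d) (hd : p ^ d ≤ Nat.card L) :
    ∃ Q : Subgroup Ω, K ≤ Q ∧ Q ≤ L ∧ Nat.card Q = p ^ d := by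
  have h2 := (Fact.out : p.Prime).two_le
  have : Finite K := Finite.of_injective _ (Subgroup.inclusion_injective hKL)
  obtain ⟨n, hn⟩ := hL.exists_card_eq
  obtain ⟨m, hm⟩ := (hL.to_le hKL).exists_card_eq
  rw [hn] at hd
  rw [hm] at hK
  have hdn := (Nat.pow_le_pow_iff_right h2).1 hd
  have hmd := (Nat.pow_le_pow_iff_right h2).1 hK
  obtain ⟨Q, hQ, hKQ⟩ := Sylow.exists_subgroup_card_pow_prime_le p (G := L) (n := m) (m := d)
    (by rw [hn]; exact pow_dvd_pow p hdn) (K.subgroupOf L)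
    ((Nat.card_congr (Subgroup.subgroupOfEquivOfLe hKL).toEquiv).trans hm) hmd
  refine ⟨Q.map L.subtype, fun x hx => ⟨⟨x, hKL hx⟩, hKQ hx, rfl⟩, Subgroup.map_subtype_le Q, ?_⟩
  rw [Subgroup.card_map_of_injective L.subtype_injective, hQ]

/-- In a lattice of normal subgroups in which every subgroup of order `p ^ d` is embedded by some
member, one member has order `p ^ d`. -/
theorem exists_member_card {R : Subgroup Ω} [Finite R] (hR : IsPGroup p R) (C : Subgroup Ω → Prop)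
    (hle : ∀ X, C X → X ≤ R) (hnorm : ∀ X, C X → R ≤ Subgroup.normalizer (X : Set Ω))
    (hbot : C ⊥) (htop : C R) (hsup : ∀ X Y, C X → C Y → C (X ⊔ Y)) (hinf : ∀ X Y, C X → C Y → C (X ⊓ Y))
    {d : ℕ} (hd : p ^ d ≤ Nat.card R)
    (hW : ∀ Q, Q ≤ R → Nat.card Q = p ^ d → ∃ A, C A ∧ C (Q ⊔ A) ∧ C (Q ⊓ A)) :
    ∃ X, C X ∧ Nat.card X = p ^ d := by
  have hfin : {X : Subgroup Ω | C X}.Finite := by
    refine Set.Finite.of_finite_image (f := fun X => X.subgroupOf R) (Set.toFinite _) fun X hX Y hY h => ?_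
    have h1 := congrArg (Subgroup.map R.subtype) h
    rwa [Subgroup.map_subgroupOf_eq_of_le (hle X hX), Subgroup.map_subgroupOf_eq_of_le (hle Y hY)] at h1
  obtain ⟨K, ⟨hK, hKc⟩, hKmax⟩ := (hfin.subset (fun X (hX : C X ∧ Nat.card X ≤ p ^ d) => hX.1)).exists_maximal
    ⟨⊥, hbot, by rw [Subgroup.card_bot]; exact Nat.one_le_pow _ _ (Fact.out : p.Prime).pos⟩
  by_contra hcon
  have hKne : Nat.card K ≠ p ^ d := fun h => hcon ⟨K, hK, h⟩
  have hKR : K ≠ R := fun h => hKne (le_antisymm hKc (h ▸ hd))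
  obtain ⟨L, ⟨hL, hKL⟩, hLmin⟩ := (hfin.subset (fun X (hX : C X ∧ K < X) => hX.1)).exists_minimal
    ⟨R, htop, lt_of_le_of_ne (hle K hK) hKR⟩
  have hLc : p ^ d < Nat.card L := by
    by_contra h
    exact hKL.not_ge (hKmax ⟨hL, not_lt.1 h⟩ hKL.le)
  have : Finite L := Finite.of_injective _ (Subgroup.inclusion_injective (hle L hL))
  obtain ⟨Q, hKQ, hQL, hQ⟩ := exists_between (hR.to_le (hle L hL)) hKL.le hKc hLc.le
  have : Finite Q := Finite.of_injective _ (Subgroup.inclusion_injective (hQL.trans (hle L hL)))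
  obtain ⟨A, hA, hQA, hQiA⟩ := hW Q (hQL.trans (hle L hL)) hQ
  have hQiK : Q ⊓ A ≤ K := by
    have h1 : Nat.card (K ⊔ (Q ⊓ A) : Subgroup Ω) ≤ p ^ d :=
      hQ ▸ Nat.card_le_card_of_injective _ (Subgroup.inclusion_injective (sup_le hKQ inf_le_left))
    exact le_sup_right.trans (hKmax ⟨hsup _ _ hK hQiA, h1⟩ le_sup_left)
  have hA' : C (A ⊓ L) := hinf _ _ hA hL
  have hQN : Q ≤ Subgroup.normalizer (A : Set Ω) := (hQL.trans (hle L hL)).trans (hnorm A hA)
  have hQA' : C (Q ⊔ A ⊓ L) := by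
    have e : Q ⊔ A ⊓ L = (Q ⊔ A) ⊓ L := by
      refine le_antisymm (sup_le (le_inf le_sup_left hQL) (le_inf (inf_le_left.trans le_sup_right) inf_le_right)) ?_
      rintro x ⟨hx, hxL⟩
      replace hx : x ∈ ((Q ⊔ A : Subgroup Ω) : Set Ω) := hx
      rw [Subgroup.coe_mul_of_left_le_normalizer_right _ _ hQN] at hx
      obtain ⟨q, hq, a, ha, rfl⟩ := hx
      have haL : a ∈ L := by
        have := L.mul_mem (L.inv_mem (hQL hq)) hxL
        rwa [inv_mul_cancel_left] at this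
      exact Subgroup.mul_mem _ (Subgroup.mem_sup_left hq) (Subgroup.mem_sup_right ⟨ha, haL⟩)
    rw [e]
    exact hinf _ _ hQA hL
  have hKltQ : K < Q := lt_of_le_of_ne hKQ fun h => hKne (h ▸ hQ)
  have hLQA : L ≤ Q ⊔ A ⊓ L :=
    hLmin ⟨hQA', lt_of_lt_of_le hKltQ le_sup_left⟩ (sup_le hQL inf_le_right)
  rcases eq_or_lt_of_le (le_sup_left : K ≤ K ⊔ A ⊓ L) with h | h
  · have hAK : A ⊓ L ≤ K := h.symm ▸ le_sup_right
    have : Nat.card L ≤ Nat.card Q :=
      Nat.card_le_card_of_injective _ (Subgroup.inclusion_injective (hLQA.trans (sup_le le_rfl (hAK.trans hKQ))))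
    rw [hQ] at this
    exact hLc.not_ge this
  · have hLKA : L ≤ K ⊔ A ⊓ L := hLmin ⟨hsup _ _ hK hA', h⟩ (sup_le hKL.le inf_le_right)
    refine hKltQ.not_ge fun q hq => ?_
    have hq' := hLKA (hQL hq)
    rw [← SetLike.mem_coe,
      Subgroup.coe_mul_of_left_le_normalizer_right _ _ ((hle K hK).trans (hnorm _ hA'))] at hq'
    obtain ⟨k, hk, a, ⟨ha, -⟩, hkaq⟩ := hq'
    have haQ : a ∈ Q := by
      have := Q.mul_mem (Q.inv_mem (hKQ hk)) hq
      rw [← hkaq] at this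
      rwa [inv_mul_cancel_left] at this
    rw [← hkaq]
    exact K.mul_mem hk (hQiK ⟨haQ, ha⟩)

end CfsgLib.FusionWeakEmb
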