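import Cfsg.Agent.Lib.Fusion.Normal
import Cfsg.Agent.Lib.Fusion.Local
import Cfsg.Agent.Lib.Fusion.Stability
import Cfsg.Agent.Lib.FusionQuot.NormalClosed
import Cfsg.Agent.Lib.FusionWeakEmb.Lattice

/-!
# Automizers of large subgroups under the weak embedding hypothesis
-/

set_option autoImplicit false

namespace CfsgLib.FusionWeakEmb

open Cfsg Cfsg.FusionSystem CfsgLib.Fusion

variable {Ω : Type*} [Group Ω] {S R : Subgroup Ω} {F : Cfsg.FusionSystem S} {p : ℕ}

/-- Every subgroup of order `p ^ d` is weakly embedded. -/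
def WeakEmb (F : Cfsg.FusionSystem S) (p d : ℕ) : Prop :=
  ∀ Q : Subgroup Ω, Q ≤ S → Nat.card Q = p ^ d →
    ∃ P, F.StronglyClosed P ∧ F.StronglyClosed (Q ⊔ P) ∧ F.StronglyClosed (Q ⊓ P)

/-- The normalizer systems of the fully normalized subgroups of order `p ^ d` are inner. -/
def InnerNormalizers (F : Cfsg.FusionSystem S) (p d : ℕ) : Prop :=
  ∀ H : Subgroup Ω, F.IsFullyNormalized H → Nat.card H = p ^ d →
    ∀ N : Cfsg.FusionSystem (normalizerIn S H), F.IsNormalizerSystem H N →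
      ∀ P : Subgroup Ω, N.Hom P = (Cfsg.innerFusionSystem (normalizerIn S H)).Hom P

/-- `X` is normal in `R` and invariant under `β`. -/
def Adm (β : MulAut R) (X : Subgroup Ω) : Prop :=
  X ≤ R ∧ R ≤ Subgroup.normalizer (X : Set Ω) ∧ ∀ x : R, (x : Ω) ∈ X → ((β x : R) : Ω) ∈ X

theorem adm_sup {β : MulAut R} {X Y : Subgroup Ω} (hX : Adm β X) (hY : Adm β Y) : Adm β (X ⊔ Y) := by
  refine ⟨sup_le hX.1 hY.1, fun g hg => ?_, fun x hx => ?_⟩
  · have h1 : ∀ Z : Subgroup Ω, g ∈ Subgroup.normalizer (Z : Set Ω) → Z.map (MulAut.conj g).toMonoidHom = Z :=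
      fun Z h => Subgroup.mem_normalizer_iff_map_conj_eq.1 h
    rw [Subgroup.mem_normalizer_iff_map_conj_eq]
    show (X ⊔ Y).map (MulAut.conj g).toMonoidHom = X ⊔ Y
    rw [Subgroup.map_sup, h1 X (hX.2.1 hg), h1 Y (hY.2.1 hg)]
  · have hle : X ⊔ Y ≤ (((X ⊔ Y).subgroupOf R).comap β.toMonoidHom).map R.subtype :=
      sup_le (fun y hy => ⟨⟨y, hX.1 hy⟩, Subgroup.mem_sup_left (S := X) (T := Y) (hX.2.2 ⟨y, hX.1 hy⟩ hy), rfl⟩)
        (fun y hy => ⟨⟨y, hY.1 hy⟩, Subgroup.mem_sup_right (S := X) (T := Y) (hY.2.2 ⟨y, hY.1 hy⟩ hy), rfl⟩)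
    obtain ⟨u, hu, hux⟩ := hle hx
    exact (Subtype.ext hux : u = x) ▸ hu

theorem adm_inf {β : MulAut R} {X Y : Subgroup Ω} (hX : Adm β X) (hY : Adm β Y) : Adm β (X ⊓ Y) :=
  ⟨inf_le_left.trans hX.1, fun g hg => Subgroup.mem_normalizer_iff.2 fun x =>
      ⟨fun h => ⟨(Subgroup.mem_normalizer_iff.1 (hX.2.1 hg) x).1 h.1,
          (Subgroup.mem_normalizer_iff.1 (hY.2.1 hg) x).1 h.2⟩,
        fun h => ⟨(Subgroup.mem_normalizer_iff.1 (hX.2.1 hg) x).2 h.1,
          (Subgroup.mem_normalizer_iff.1 (hY.2.1 hg) x).2 h.2⟩⟩,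
    fun x h => ⟨hX.2.2 x h.1, hY.2.2 x h.2⟩⟩

variable [Fact p.Prime] [Finite S]

/-- An automizer of a subgroup of order at least `p ^ d` is a `p`-group. -/
theorem isPGroup_autGroup_of_le (hS : IsPGroup p S) (hF : F.IsSaturated p) {d : ℕ}
    (hW : WeakEmb F p d) (hN : InnerNormalizers F p d) (hR : R ≤ S) (hd : p ^ d ≤ Nat.card R) :
    IsPGroup p (F.autGroup R) := by
  have : Finite R := finite_of_le hR
  have : Finite (MulAut R) := finite_mulAut
  refine Stability.isPGroup_of_coprime_eq_one fun β hβ => ?_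
  have hsc : ∀ P, F.StronglyClosed P → Adm (β : MulAut R) (P ⊓ R) := fun P hP =>
    ⟨inf_le_right, fun g hg => Subgroup.mem_normalizer_iff.2 fun x =>
        ⟨fun h => ⟨(Subgroup.mem_normalizer_iff.1 (stronglyClosed_le_normalizer hP (hR hg)) x).1 h.1,
            R.mul_mem (R.mul_mem hg h.2) (R.inv_mem hg)⟩,
          fun h => ⟨(Subgroup.mem_normalizer_iff.1 (stronglyClosed_le_normalizer hP (hR hg)) x).2 h.1, by
            have := R.mul_mem (R.mul_mem (R.inv_mem hg) h.2) hg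
            simpa [mul_assoc] using this⟩⟩,
      fun x hx => ⟨Stability.aut_mem hP hR β.2 hx.1, ((β : MulAut R) x).2⟩⟩
  obtain ⟨Q, ⟨hQR, hRQ, hQinv⟩, hQ⟩ := exists_member_card (p := p) (isPGroup_of_le hS hR) (Adm (β : MulAut R))
    (fun _ h => h.1) (fun _ h => h.2.1)
    ⟨bot_le, fun g _ => by rw [Subgroup.normalizer_eq_top_iff.2 inferInstance]; exact Subgroup.mem_top g,
      fun x hx => by
        rw [Subgroup.mem_bot] at hx ⊢
        rw [show x = 1 from Subtype.ext hx, map_one]; rfl⟩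
    ⟨le_rfl, Subgroup.le_normalizer, fun x _ => ((β : MulAut R) x).2⟩
    (fun _ _ => adm_sup) (fun _ _ => adm_inf) hd (fun Q hQR hQ => by
      obtain ⟨P, hP, h1, h2⟩ := hW Q (hQR.trans hR) hQ
      refine ⟨P ⊓ R, hsc P hP, ?_, ?_⟩
      · have e : Q ⊔ P ⊓ R = (Q ⊔ P) ⊓ R := by
          refine le_antisymm (sup_le (le_inf le_sup_left hQR)
            (le_inf (inf_le_left.trans le_sup_right) inf_le_right)) ?_
          rintro x ⟨hx, hxR⟩
          replace hx : x ∈ ((Q ⊔ P : Subgroup Ω) : Set Ω) := hx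
          rw [Subgroup.coe_mul_of_left_le_normalizer_right _ _
            ((hQR.trans hR).trans (stronglyClosed_le_normalizer hP))] at hx
          obtain ⟨q, hq, a, ha, rfl⟩ := hx
          have haR : a ∈ R := by
            have := R.mul_mem (R.inv_mem (hQR hq)) hxR
            rwa [inv_mul_cancel_left] at this
          exact Subgroup.mul_mem _ (Subgroup.mem_sup_left hq) (Subgroup.mem_sup_right ⟨ha, haR⟩)
        rw [e]
        exact hsc _ h1
      · rw [show Q ⊓ (P ⊓ R) = (Q ⊓ P) ⊓ R from (inf_assoc _ _ _).symm]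
        exact hsc _ h2)
  -- transport to a fully normalized conjugate of `Q`
  obtain ⟨H, hQH, hH⟩ := exists_isFullyNormalized F (hQR.trans hR)
  obtain ⟨e, -, ψ, hψ, hψN, hag⟩ := exists_normalizer_map hS hF hH hQH
  have hRN : R ≤ normalizerIn S Q := fun g hg => ⟨hR hg, hRQ hg⟩
  set ψR := ψ.comp (Subgroup.inclusion hRN) with hψR
  have hψRm : ψR ∈ F.Hom R := restrict_mem hψ hRN
  set R' := ψR.range with hR'
  obtain ⟨g, hg, hgapp⟩ := exists_iso hψRm (rfl : ψR.range = R')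
  have hHR' : H ≤ R' := fun h hh => ⟨⟨(e.symm ⟨h, hh⟩ : Ω), hQR (e.symm ⟨h, hh⟩).2⟩, by
    show ψ _ = h
    exact (hag (e.symm ⟨h, hh⟩)).trans (by rw [MulEquiv.apply_symm_apply])⟩
  have hR'N : R' ≤ normalizerIn S H := by
    rintro _ ⟨x, rfl⟩
    exact hψN _
  have hR'S : R' ≤ S := hR'N.trans (normalizerIn_le S H)
  have : Finite R' := finite_of_le hR'S
  have : Finite (MulAut R') := finite_mulAut
  set β' := MulAut.congr g (β : MulAut R) with hβ'
  have hβ'F : β' ∈ F.autGroup R' := hg.congr_mem β.2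
  have hmem : ∀ y : R', (y : Ω) ∈ H ↔ ((g.symm y : R) : Ω) ∈ Q := fun y => by
    constructor
    · intro hy
      have e1 : g.symm y = ⟨(e.symm ⟨y, hy⟩ : Ω), hQR (e.symm ⟨y, hy⟩).2⟩ := by
        rw [MulEquiv.symm_apply_eq]
        refine Subtype.ext ?_
        rw [hgapp]
        show _ = ψ _
        exact ((hag (e.symm ⟨y, hy⟩)).trans (by rw [MulEquiv.apply_symm_apply])).symm
      rw [e1]
      exact (e.symm ⟨y, hy⟩).2
    · intro hq
      have h1 : ψR (g.symm y) = (e ⟨_, hq⟩ : Ω) := hag ⟨_, hq⟩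
      rw [← hgapp, MulEquiv.apply_symm_apply] at h1
      exact h1 ▸ (e ⟨_, hq⟩).2
  have hinv : (H.subgroupOf R').map β'.toMonoidHom = H.subgroupOf R' := by
    refine Subgroup.eq_of_le_of_card_ge ?_ (by rw [Subgroup.card_map_of_injective β'.injective])
    rintro _ ⟨y, hy, rfl⟩
    show ((β' y : R') : Ω) ∈ H
    rw [hmem, hβ', congr_apply, MulEquiv.symm_apply_apply]
    exact hQinv _ ((hmem y).1 hy)
  have hnh := mem_normalizerHom_of_aut hHR' hR'N hβ'F hinv
  have hHcard : Nat.card H = p ^ d := (isConj_card_eq hQH).symm.trans hQ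
  have hinner := hN H hH hHcard _ (isNormalizerSystem_normalizerSystem F H hH.1) R'
  have h1 : R'.subtype.comp β'.toMonoidHom ∈ (normalizerSystem F H hH.1).Hom R' := hnh
  rw [hinner] at h1
  obtain ⟨-, s, hs, hsx⟩ := h1
  have h2 : β' ∈ autInducedBy S R' := mem_autInducedBy_iff.2 ⟨s, hs.1, hsx⟩
  obtain ⟨i, hi⟩ := isPGroup_autInducedBy hS R' ⟨β', h2⟩
  have hi' : β' ^ p ^ i = 1 := congrArg Subtype.val hi
  rw [hβ', ← map_pow, EmbeddingLike.map_eq_one_iff] at hi'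
  have hβi : β ^ p ^ i = 1 := Subtype.ext (by rw [SubgroupClass.coe_pow]; exact hi')
  exact orderOf_eq_one_iff.1 (Nat.eq_one_of_dvd_coprimes (hβ.pow_right i) dvd_rfl
    (orderOf_dvd_of_pow_eq_one hβi))

end CfsgLib.FusionWeakEmb
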