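import Cfsg.Agent.Lib.Fusion.TateInner
import Cfsg.Agent.Lib.Fusion.Hyperfocal
import Cfsg.Agent.Lib.FusionQuot.Solvable
import Cfsg.Agent.Lib.FusionExtraspecial.Basic
import Cfsg.Agent.Lib.Yoshida.Basic
import Cfsg.Agent.Lib.FusionWeakEmb.Aut

/-!
# Weak embedding and `p`-group automizers of the large subgroups force the inner system
-/

set_option autoImplicit false

universe u

namespace CfsgLib.FusionWeakEmb

open Cfsg Cfsg.FusionSystem CfsgLib.Fusion CfsgLib.FusionQuot

variable {Ω : Type u} [Group Ω] {S : Subgroup Ω} {F : Cfsg.FusionSystem S} {p : ℕ} [Fact p.Prime] [Finite S]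

theorem card_preimageAlong {Ω' : Type*} [Group Ω'] {K : Subgroup Ω} {θ : S →* Ω'} (hK : K ≤ S)
    (hθ : ∀ s : S, θ s = 1 ↔ (s : Ω) ∈ K) {P' : Subgroup Ω'} (hP' : P' ≤ θ.range) :
    Nat.card (preimageAlong θ P') = Nat.card P' * Nat.card K := by
  have hker : θ.ker = K.subgroupOf S := Subgroup.ext fun s => hθ s
  let f : (P'.comap θ) →* Ω' := θ.comp (P'.comap θ).subtype
  have hfk : f.ker = θ.ker.subgroupOf (P'.comap θ) := rfl
  have hfr : f.range = P' := by
    ext y
    constructor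
    · rintro ⟨x, rfl⟩
      exact x.2
    · intro hy
      obtain ⟨x, rfl⟩ := hP' hy
      exact ⟨⟨x, hy⟩, rfl⟩
  show Nat.card ((P'.comap θ).map S.subtype : Subgroup Ω) = _
  rw [Subgroup.card_map_of_injective S.subtype_injective, ← Subgroup.card_mul_index f.ker, Subgroup.index_ker,
    hfr, hfk, Nat.card_congr (Subgroup.subgroupOfEquivOfLe fun x (hx : x ∈ θ.ker) => show θ x ∈ P' by
      rw [MonoidHom.mem_ker.1 hx]; exact P'.one_mem).toEquiv, hker,
    Nat.card_congr (Subgroup.subgroupOfEquivOfLe hK).toEquiv, mul_comm]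

/-- If the factor system by `K` is inner then `K` contains the hyperfocal subgroup. -/
theorem hyperfocal_le_of_inner_factor (hS : IsPGroup p S) (hF : F.IsSaturated p) {K : Subgroup Ω}
    (hK : F.StronglyClosed K) {Ω' : Type*} [Group Ω'] {S' : Subgroup Ω'} {θ : S →* Ω'}
    {E : Cfsg.FusionSystem S'} (hE : F.IsFactorSystem K θ E) (hinner : E = innerFusionSystem S') :
    F.hyperfocalSubgroup p ≤ K := by
  refine (Subgroup.closure_le _).2 ?_
  rintro _ ⟨R, α, x, hR, hα, rfl⟩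
  have : Finite R := finite_of_le hR
  have : Finite (MulAut R) := finite_mulAut
  let M : Submonoid (F.autGroup R) :=
    { carrier := {γ | ∀ y : R, (y : Ω)⁻¹ * ((γ : MulAut R) y : R) ∈ K}
      one_mem' := fun y => by
        show (y : Ω)⁻¹ * (y : Ω) ∈ K
        rw [inv_mul_cancel]; exact one_mem _
      mul_mem' := fun {γ δ} hγ hδ y => by
        have := K.mul_mem (hδ y) (hγ ((δ : MulAut R) y))
        rwa [mul_assoc, mul_inv_cancel_left] at this }
  suffices h : ∀ γ : F.autGroup R, γ ∈ pResidual p (F.autGroup R) → γ ∈ M from h α hα x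
  intro γ hγ
  refine Submonoid.closure_le.2 ?_ (show γ ∈ Submonoid.closure {g : F.autGroup R | (orderOf g).Coprime p} by
    rw [← Subgroup.closure_toSubmonoid_of_finite]; exact hγ)
  intro δ hδ y
  obtain ⟨φ', hφ', hi⟩ := (isSurjectiveMorphism_factor hS hF hK θ E hE).1.2 R _
    ((mem_autGroup_iff_hom hR).1 δ.2)
  rw [hinner] at hφ'
  obtain ⟨-, s', hs', hsapp⟩ := hφ'
  rw [← hE.2.2.1] at hs'
  obtain ⟨s, rfl⟩ := hs'
  have hstep : ∀ z : R, θ ⟨((δ : MulAut R) z : R), hR ((δ : MulAut R) z).2⟩ = θ s * θ ⟨z, hR z.2⟩ * (θ s)⁻¹ :=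
    fun z => (induced_apply hi z (hR z.2) (apply_mem_imageAlong (hR z.2) z.2)
      (hR ((δ : MulAut R) z).2)).symm.trans (hsapp _)
  have hpow : ∀ (n : ℕ) (z : R), θ ⟨(((δ : MulAut R) ^ n) z : R), hR (((δ : MulAut R) ^ n) z).2⟩ =
      θ s ^ n * θ ⟨z, hR z.2⟩ * (θ s ^ n)⁻¹ := by
    intro n
    induction n with
    | zero =>
      intro z
      rw [pow_zero (θ s), one_mul, inv_one, mul_one]
      rfl
    | succ n ih =>
      intro z
      have h1 := ih ((δ : MulAut R) z)
      rw [hstep z] at h1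
      refine Eq.trans ?_ (h1.trans (by rw [pow_succ, mul_inv_rev]; simp only [mul_assoc]))
      congr 2
  have hord : (orderOf (δ : MulAut R)).Coprime p := by rwa [Subgroup.orderOf_coe]
  obtain ⟨i, hi'⟩ := hS s
  have hsi : θ s ^ p ^ i = 1 := by rw [← map_pow, hi', map_one]
  set n := orderOf (δ : MulAut R)
  have hfix : θ s ^ n * θ ⟨y, hR y.2⟩ * (θ s ^ n)⁻¹ = θ ⟨y, hR y.2⟩ := by
    rw [← hpow n y]
    congr 2
    rw [pow_orderOf_eq_one]
    rfl
  have hc : Commute (θ s ^ n) (θ ⟨y, hR y.2⟩) := mul_inv_eq_iff_eq_mul.1 hfix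
  have hcop : (orderOf (θ s)).Coprime n :=
    Nat.Coprime.coprime_dvd_left (orderOf_dvd_of_pow_eq_one hsi) (hord.pow_right i).symm
  obtain ⟨m, hm⟩ := exists_pow_eq_self_of_coprime hcop.symm
  have hc' : Commute (θ s) (θ ⟨y, hR y.2⟩) := hm ▸ hc.pow_left m
  have h1 := hstep y
  rw [hc'.eq, mul_inv_cancel_right] at h1
  have h2 : θ ((⟨y, hR y.2⟩ : S)⁻¹ * ⟨((δ : MulAut R) y : R), hR ((δ : MulAut R) y).2⟩) = 1 := by
    rw [map_mul, map_inv, h1, inv_mul_cancel]
  exact (hE.2.1 _).1 h2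

/-- The automizers in a factor system are images. -/
theorem isPGroup_autGroup_factor {K : Subgroup Ω}
    {Ω' : Type*} [Group Ω'] {S' : Subgroup Ω'} {θ : S →* Ω'} {E : Cfsg.FusionSystem S'}
    (hE : F.IsFactorSystem K θ E) {R' : Subgroup Ω'} (hR' : R' ≤ S')
    (h : IsPGroup p (F.autGroup (preimageAlong θ R'))) : IsPGroup p (E.autGroup R') := by
  intro a
  set R := preimageAlong θ R' with hRdef
  obtain ⟨-, φ, (hφ : φ ∈ F.Hom R), hi⟩ := (hE.2.2.2 R' _).1 ((mem_autGroup_iff_hom hR').1 a.2)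
  have hRS : R ≤ S := preimageAlong_le R'
  have : Finite R := finite_of_le hRS
  have hmem : ∀ x : R, φ x ∈ R := fun x => by
    obtain ⟨hxS, hx⟩ := mem_preimageAlong.1 x.2
    refine mem_preimageAlong.2 ⟨map_mem hφ x, ?_⟩
    rw [← induced_apply hi x hxS hx (map_mem hφ x)]
    exact ((a : MulAut R') ⟨θ ⟨x, hxS⟩, hx⟩).2
  obtain ⟨γ, hγ, hγapp⟩ := exists_aut hφ (range_eq_of_le (hom_inj hφ) hmem)
  obtain ⟨i, hi'⟩ := h ⟨γ, hγ⟩
  have hγ1 : γ ^ p ^ i = 1 := congrArg Subtype.val hi'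
  have key : ∀ (n : ℕ) (x : R) (h1 : θ ⟨x, hRS x.2⟩ ∈ R'),
      ((((a : MulAut R') ^ n) ⟨θ ⟨x, hRS x.2⟩, h1⟩ : R') : Ω') = θ ⟨(((γ ^ n) x : R) : Ω), hRS ((γ ^ n) x).2⟩ := by
    intro n
    induction n with
    | zero => intro x h1; rfl
    | succ n ih =>
      intro x h1
      have h2 : θ ⟨(((γ ^ n) x : R) : Ω), hRS ((γ ^ n) x).2⟩ ∈ R' := (mem_preimageAlong.1 ((γ ^ n) x).2).2
      have e : ((a : MulAut R') ^ n) ⟨θ ⟨x, hRS x.2⟩, h1⟩ = ⟨_, h2⟩ := Subtype.ext (ih x h1)
      rw [pow_succ' (a : MulAut R'), MulAut.mul_apply, e]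
      refine (induced_apply hi _ _ h2 (map_mem hφ _)).trans (congrArg θ (Subtype.ext ?_))
      rw [pow_succ' γ, MulAut.mul_apply, hγapp]
  refine ⟨i, Subtype.ext (MulEquiv.ext fun y => Subtype.ext ?_)⟩
  obtain ⟨x, hx⟩ := (hE.2.2.1.symm ▸ hR' y.2 : (y : Ω') ∈ θ.range)
  have hxR : (x : Ω) ∈ R := mem_preimageAlong.2 ⟨x.2, hx ▸ y.2⟩
  have hy : y = ⟨θ ⟨x, hRS hxR⟩, hx ▸ y.2⟩ := Subtype.ext hx.symm
  show ((((a : MulAut R') ^ p ^ i) y : R') : Ω') = (y : Ω')
  rw [hy, key (p ^ i) ⟨x, hxR⟩]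
  rw [hγ1]
  rfl

/-- A central hyperfocal subgroup of order `p` fixed by every map is trivial. -/
theorem hyperfocal_eq_bot_of_fixed (hS : IsPGroup p S)
    (h : ∀ (R : Subgroup Ω) (φ : R →* Ω), φ ∈ F.Hom R → ∀ x : R, (x : Ω) ∈ F.hyperfocalSubgroup p → φ x = x) :
    F.hyperfocalSubgroup p = ⊥ := by
  rw [eq_bot_iff]
  refine (Subgroup.closure_le _).2 ?_
  rintro _ ⟨R, α, x, hR, hα, rfl⟩
  have : Finite R := finite_of_le hR
  have : Finite (MulAut R) := finite_mulAut
  suffices hle : pResidual p (F.autGroup R) ≤ ⊥ by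
    have : α = 1 := Subgroup.mem_bot.1 (hle hα)
    rw [this]
    show (x : Ω)⁻¹ * (x : Ω) ∈ (⊥ : Subgroup Ω)
    rw [inv_mul_cancel]
    exact one_mem _
  refine (Subgroup.closure_le _).2 fun δ hδ => ?_
  refine Subgroup.mem_bot.2 (Subtype.ext (MulEquiv.ext fun y => ?_))
  refine Stability.eq_self_of_disp_fixed (isPGroup_of_le hS hR) _
    (by rw [Subgroup.orderOf_coe]; exact hδ) (Subtype.ext ?_)
  exact h R _ ((mem_autGroup_iff_hom hR).1 δ.2) _
    (mem_hyperfocal_of_pResidual hR (Subgroup.subset_closure hδ) y)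

/-- Weakly embedded subgroups of order `p ^ d` and `p`-group automizers of all subgroups of at least
that order force the inner system. -/
theorem eq_inner_aux (n : ℕ) : ∀ {Ω : Type u} [Group Ω] {S : Subgroup Ω} [Finite S] {F : Cfsg.FusionSystem S}
    (d : ℕ), Nat.card S = n → IsPGroup p S → F.IsSaturated p → p ^ d < Nat.card S → WeakEmb F p d →
    (∀ R : Subgroup Ω, R ≤ S → p ^ d ≤ Nat.card R → IsPGroup p (F.autGroup R)) →
    F = innerFusionSystem S := by
  induction n using Nat.strong_induction_on with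
  | _ n ih =>
  intro Ω _ S _ F d hn hS hF hd hW hA
  have hp := (Fact.out : p.Prime)
  by_cases hd0 : d = 0
  · exact eq_inner_of_isPGroup hS hF fun R hR => hA R hR (by
      have : Finite R := finite_of_le hR
      rw [hd0, pow_zero]
      exact Nat.card_pos)
  set H := F.hyperfocalSubgroup p with hH
  have hHsc := stronglyClosed_hyperfocal hS hF
  -- strongly closed nontrivial subgroups contain the hyperfocal subgroup
  have hmin : ∀ K : Subgroup Ω, F.StronglyClosed K → K ≠ ⊥ → H ≤ K := by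
    intro K hK hKne
    have := stronglyClosed_subgroupOf_normal hK
    obtain ⟨E, hE⟩ := exists_factorSystem_quotient F K hK
    set θ := QuotientGroup.mk' (K.subgroupOf S)
    have hS' : IsPGroup p (⊤ : Subgroup (S ⧸ K.subgroupOf S)) := isPGroup_of_isFactorSystem hS hE
    have hF' : E.IsSaturated p := isSaturated_factor hS hF hK hE
    have hrng : θ.range = ⊤ := hE.2.2.1
    refine hyperfocal_le_of_inner_factor hS hF hK hE ?_
    by_cases hbig : p ^ d ≤ Nat.card K
    · refine eq_inner_of_isPGroup hS' hF' fun R' hR' => isPGroup_autGroup_factor hE hR' (hA _ (preimageAlong_le R') ?_)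
      rw [card_preimageAlong hK.1 hE.2.1 (hrng.symm ▸ le_top)]
      exact hbig.trans (Nat.le_mul_of_pos_left _ Nat.card_pos)
    rw [not_le] at hbig
    have : Finite K := finite_of_le hK.1
    obtain ⟨k, hk⟩ := (hS.to_le hK.1).exists_card_eq
    have hkd : k < d := (Nat.pow_lt_pow_iff_right hp.one_lt).1 (hk ▸ hbig)
    have hk0 : k ≠ 0 := fun h0 => hKne (Subgroup.card_eq_one.1 (by rw [hk, h0, pow_zero]))
    have hcardS : Nat.card S = Nat.card (⊤ : Subgroup (S ⧸ K.subgroupOf S)) * Nat.card K := by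
      rw [← card_preimageAlong hK.1 hE.2.1 (P' := ⊤) (hrng.symm ▸ le_rfl)]
      show Nat.card S = Nat.card ((Subgroup.comap θ ⊤).map S.subtype : Subgroup Ω)
      rw [Subgroup.comap_top, ← MonoidHom.range_eq_map, Subgroup.range_subtype]
    have hdk : p ^ d = p ^ (d - k) * Nat.card K := by rw [hk, ← pow_add, Nat.sub_add_cancel hkd.le]
    refine ih (Nat.card (⊤ : Subgroup (S ⧸ K.subgroupOf S))) ?_ (d - k) rfl hS' hF' ?_ ?_ ?_
    · rw [← hn, hcardS]
      exact (Nat.lt_mul_iff_one_lt_right Nat.card_pos).2 (hk ▸ Nat.one_lt_pow hk0 hp.one_lt)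
    · rw [hcardS, hdk] at hd
      exact Nat.lt_of_mul_lt_mul_right hd
    · intro Q' hQ' hQ'c
      have hQ'r : Q' ≤ θ.range := hrng.symm ▸ le_top
      set Q := preimageAlong θ Q' with hQdef
      have hQc : Nat.card Q = p ^ d := by
        rw [hQdef, card_preimageAlong hK.1 hE.2.1 hQ'r, hQ'c, hdk]
      obtain ⟨P, hP, h1, h2⟩ := hW Q (preimageAlong_le Q') hQc
      refine ⟨imageAlong θ P, stronglyClosed_imageAlong hK hE hP, ?_, ?_⟩
      · have e : Q' ⊔ imageAlong θ P = imageAlong θ (Q ⊔ P) := by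
          conv_lhs => rw [← imageAlong_preimageAlong hQ'r, ← hQdef]
          show (Q.subgroupOf S).map θ ⊔ (P.subgroupOf S).map θ = ((Q ⊔ P).subgroupOf S).map θ
          rw [Subgroup.subgroupOf_sup (preimageAlong_le Q') hP.1, Subgroup.map_sup]
        rw [e]
        exact stronglyClosed_imageAlong hK hE h1
      · have e : Q' ⊓ imageAlong θ P = imageAlong θ (Q ⊓ P) := by
          refine le_antisymm ?_ (le_inf ((imageAlong_mono inf_le_left).trans
            (imageAlong_preimageAlong hQ'r).le) (imageAlong_mono inf_le_right))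
          rintro y ⟨hyQ, hyP⟩
          obtain ⟨x, hxS, hxP, rfl⟩ := mem_imageAlong.1 hyP
          exact apply_mem_imageAlong hxS ⟨mem_preimageAlong.2 ⟨hxS, hyQ⟩, hxP⟩
        rw [e]
        exact stronglyClosed_imageAlong hK hE h2
    · intro R' hR' hR'c
      refine isPGroup_autGroup_factor hE hR' (hA _ (preimageAlong_le R') ?_)
      rw [card_preimageAlong hK.1 hE.2.1 (hrng.symm ▸ le_top), hdk]
      exact Nat.mul_le_mul_right _ hR'c
  -- a strongly closed subgroup of order `p ^ d`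
  obtain ⟨D, hD, hDc⟩ := exists_member_card (p := p) hS F.StronglyClosed (fun _ h => h.1)
    (fun _ h => Fusion.stronglyClosed_le_normalizer h) (stronglyClosed_bot F) (stronglyClosed_self F)
    (fun _ _ h1 h2 => stronglyClosed_sup hS hF h1 h2) (fun _ _ h1 h2 => stronglyClosed_inf h1 h2) hd.le hW
  suffices hbot : H = ⊥ by
    refine eq_inner_of_isPGroup hS hF fun R hR => ?_
    have : Finite R := finite_of_le hR
    have : Finite (MulAut R) := finite_mulAut
    refine Stability.isPGroup_of_coprime_eq_one fun β hβ => Subtype.ext (MulEquiv.ext fun x => ?_)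
    have h1 := mem_hyperfocal_of_pResidual (p := p) hR (Subgroup.subset_closure hβ) x
    rw [show F.hyperfocalSubgroup p = ⊥ from hbot, Subgroup.mem_bot, inv_mul_eq_one] at h1
    exact Subtype.ext h1.symm
  by_contra hHne
  have hΦ : ¬ H ≤ (frattini S).map S.subtype := fun h =>
    hHne (TateInner.hyperfocal_eq_bot hS hF h)
  have hHle : H ≤ S := hHsc.1
  obtain ⟨M, hM, hHM⟩ : ∃ M : Subgroup S, IsCoatom M ∧ ¬ H.subgroupOf S ≤ M := by
    by_contra hh
    push Not at hh
    refine hΦ fun x hx => ⟨⟨x, hHle hx⟩, ?_, rfl⟩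
    show (⟨x, hHle hx⟩ : S) ∈ frattini S
    rw [frattini, Order.radical]
    simp only [Subgroup.mem_iInf]
    exact fun N hN => hh N hN hx
  have hMn : M.Normal := Subgroup.NormalizerCondition.normal_of_coatom M
    (@Group.normalizerCondition_of_isNilpotent _ _ hS.isNilpotent) hM
  set M₁ := M.map S.subtype with hM₁
  have hM₁S : M₁ ≤ S := Subgroup.map_subtype_le M
  have hMidx : M.index = p := (CfsgLib.Yoshida.coatom_normal_index hS hM).2
  have hM₁c : p * Nat.card M₁ = Nat.card S := by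
    rw [hM₁, Subgroup.card_map_of_injective S.subtype_injective, mul_comm, ← hMidx, Subgroup.card_mul_index]
  have hdM : p ^ d ≤ Nat.card M₁ := by
    have : Finite M₁ := finite_of_le hM₁S
    obtain ⟨m, hm⟩ := (hS.to_le hM₁S).exists_card_eq
    rw [hm] at hM₁c ⊢
    rw [← hM₁c, ← pow_succ'] at hd
    exact Nat.pow_le_pow_right hp.pos (Nat.lt_succ_iff.1 ((Nat.pow_lt_pow_iff_right hp.one_lt).1 hd))
  have : Finite M₁ := finite_of_le hM₁S
  have : Finite D := finite_of_le hD.1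
  have hDne : D ≠ ⊥ := fun h => by
    rw [h, Subgroup.card_bot] at hDc
    exact (Nat.one_lt_pow hd0 hp.one_lt).ne hDc
  have hHD : Nat.card (H ⊓ M₁ : Subgroup Ω) ≤ p ^ d := hDc ▸
    Nat.card_le_card_of_injective _ (Subgroup.inclusion_injective (inf_le_left.trans (hmin D hD hDne)))
  obtain ⟨Q, hHQ, hQM, hQc⟩ := exists_between (hS.to_le hM₁S) inf_le_right hHD hdM
  have hHnotM : ¬ H ≤ M₁ := fun h => hHM fun x hx => by
    obtain ⟨y, hy, hyx⟩ := h hx
    exact (Subtype.ext hyx : y = x) ▸ hy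
  obtain ⟨P, hP, hQP, hQiP⟩ := hW Q (hQM.trans hM₁S) hQc
  have hK0 : Q ⊓ P = ⊥ := by
    by_contra hne
    exact hHnotM ((hmin _ hQiP hne).trans (inf_le_left.trans hQM))
  have hPne : P ≠ ⊥ := fun h => by
    rw [h, sup_bot_eq] at hQP
    refine hHnotM ((hmin Q hQP fun hQ0 => ?_).trans hQM)
    rw [hQ0, Subgroup.card_bot] at hQc
    exact (Nat.one_lt_pow hd0 hp.one_lt).ne hQc
  have hHM0 : H ⊓ M₁ = ⊥ := le_bot_iff.1 (hK0 ▸ le_inf hHQ (inf_le_left.trans (hmin P hP hPne)))
  -- `H` has order `p`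
  have hHcard : Nat.card H = p := by
    let f : H.subgroupOf S →* S ⧸ M := (QuotientGroup.mk' M).comp (H.subgroupOf S).subtype
    have hinj : Function.Injective f := by
      rw [injective_iff_map_eq_one]
      intro x hx
      have hxM : (x : S) ∈ M := (QuotientGroup.eq_one_iff _).1 hx
      have h1 : ((x : S) : Ω) ∈ H ⊓ M₁ := ⟨x.2, ⟨x, hxM, rfl⟩⟩
      rw [hHM0, Subgroup.mem_bot] at h1
      exact Subtype.ext (Subtype.ext h1)
    have h1 := Nat.card_le_card_of_injective f hinj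
    rw [Nat.card_congr (Subgroup.subgroupOfEquivOfLe hHle).toEquiv, ← Subgroup.index_eq_card, hMidx] at h1
    have : Finite H := finite_of_le hHle
    obtain ⟨m, hm⟩ := (hS.to_le hHle).exists_card_eq
    rcases Nat.eq_zero_or_pos m with rfl | hm0
    · exact absurd (Subgroup.card_eq_one.1 (hm.trans (pow_zero p))) hHne
    · exact le_antisymm h1 (hm ▸ Nat.le_self_pow hm0.ne' p)
  have : Finite H := finite_of_le hHle
  have hHn : (H.subgroupOf S).Normal := stronglyClosed_subgroupOf_normal hHsc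
  have hHcent : ∀ h ∈ H, ∀ g ∈ S, g * h = h * g := fun h hh g hg => by
    have h1 := CfsgLib.FusionExtraspecial.le_center_of_card_eq hS hHn
      (by rw [Nat.card_congr (Subgroup.subgroupOfEquivOfLe hHle).toEquiv, hHcard])
      (x := ⟨h, hHle hh⟩) hh
    exact congrArg Subtype.val (Subgroup.mem_center_iff.1 h1 ⟨g, hg⟩)
  refine hHne (hyperfocal_eq_bot_of_fixed hS fun R φ hφ x hx => ?_)
  by_cases hx1 : (x : Ω) = 1
  · rw [show x = 1 from Subtype.ext hx1, map_one, OneMemClass.coe_one]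
  have hHR : H ≤ R := fun h hh => by
    obtain ⟨k, hk⟩ := mem_zpowers_of_prime_card (g := (⟨x, hx⟩ : H)) (g' := ⟨h, hh⟩) hHcard
      (fun e => hx1 (congrArg Subtype.val e))
    have e : (x : Ω) ^ k = h := congrArg Subtype.val hk
    exact e ▸ R.zpow_mem x.2 k
  have hres := restrict_mem hφ hHR
  obtain ⟨e, he, heapp⟩ := exists_iso hres
    (range_eq_of_le (hom_inj hres) fun y => hHsc.2 H le_rfl _ hres y)
  have hSN : S ≤ normalizerIn S H := fun g hg => ⟨hg, Fusion.stronglyClosed_le_normalizer hHsc hg⟩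
  obtain ⟨ψ, hψ, -, hag⟩ := he.exists_extension
    (isReceptive_of_isFullyNormalized hS hF (isFullyNormalized_of_stronglyClosed hHsc)) hHle hSN
    (fun g hg => by
      rw [(conjAut_eq_one_iff (hSN hg).2).2 (Subgroup.mem_centralizer_iff.2 fun h hh =>
        (hHcent h hh g hg).symm), map_one]
      exact one_mem _)
  obtain ⟨γ, hγ, hγapp⟩ := exists_aut hψ (range_eq_of_le (hom_inj hψ) (map_mem hψ))
  have : Finite (MulAut S) := finite_mulAut
  obtain ⟨-, T, hT⟩ := isFullyAutomized_of_isFullyNormalized hS hF (isFullyNormalized_top F)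
  have htop : (T : Subgroup (F.autGroup S)) = ⊤ :=
    (T.3 ((hA S le_rfl hd.le).to_subgroup ⊤) le_top).symm
  have hγT : (⟨γ, hγ⟩ : F.autGroup S) ∈ (T : Subgroup (F.autGroup S)) := htop ▸ Subgroup.mem_top _
  rw [hT] at hγT
  obtain ⟨g, hg, hgx⟩ := mem_autInducedBy_iff.1 hγT
  have e1 : φ x = ((γ ⟨x, hHle hx⟩ : S) : Ω) := by
    rw [hγapp, hag ⟨x, hx⟩, heapp]
    rfl
  rw [e1]
  refine (hgx ⟨x, hHle hx⟩).trans ?_
  show g * (x : Ω) * g⁻¹ = x
  rw [hHcent _ hx g hg, mul_inv_cancel_right]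

theorem eq_inner (hS : IsPGroup p S) (hF : F.IsSaturated p) {d : ℕ} (hd : p ^ d < Nat.card S)
    (hW : WeakEmb F p d) (hN : InnerNormalizers F p d) : F = innerFusionSystem S :=
  eq_inner_aux (Nat.card S) d rfl hS hF hd hW fun _ hR hle => isPGroup_autGroup_of_le hS hF hW hN hR hle

end CfsgLib.FusionWeakEmb
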