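import Cfsg.Agent.Lib.FusionExtraspecial.Basic
import Cfsg.Agent.Lib.FusionWeakEmb.Inner

/-!
# The weak embedding criterion for the inner system
-/

set_option autoImplicit false

universe u

namespace CfsgLib.FusionWeakEmb

open Cfsg Cfsg.FusionSystem CfsgLib.Fusion CfsgLib.FusionQuot

variable {Ω : Type u} [Group Ω] {S : Subgroup Ω} {F : Cfsg.FusionSystem S} {p : ℕ} [Fact p.Prime] [Finite S]

theorem criterion (hS : IsPGroup p S) (hF : F.IsSaturated p) (hcard : p ^ 2 ≤ Nat.card S) :
    (∀ P : Subgroup Ω, F.Hom P = (Cfsg.innerFusionSystem S).Hom P) ↔ ∃ D : Subgroup Ω, ⊥ < D ∧ D < S ∧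
      (∀ Q : Subgroup Ω, Q ≤ S → Nat.card ↥Q = Nat.card ↥D → ∃ P : Subgroup Ω, F.StronglyClosed P ∧
        F.StronglyClosed (Q ⊔ P) ∧ F.StronglyClosed (Q ⊓ P)) ∧
      (∀ H : Subgroup Ω, F.IsFullyNormalized H → Nat.card ↥H = Nat.card ↥D →
        ∀ N : Cfsg.FusionSystem (normalizerIn S H), F.IsNormalizerSystem H N →
          ∀ P : Subgroup Ω, N.Hom P = (Cfsg.innerFusionSystem (normalizerIn S H)).Hom P) := by
  have hp := (Fact.out : p.Prime)
  obtain ⟨n, hn⟩ := hS.exists_card_eq
  constructor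
  · intro hinner
    rw [hn] at hcard
    have hn2 : 2 ≤ n := (Nat.pow_le_pow_iff_right hp.two_le).1 hcard
    obtain ⟨D', hD'⟩ := Sylow.exists_subgroup_card_pow_prime p (G := S) (n := n - 1)
      (by rw [hn]; exact pow_dvd_pow p (Nat.sub_le n 1))
    have hDc : Nat.card (D'.map S.subtype) = p ^ (n - 1) := by
      rw [Subgroup.card_map_of_injective S.subtype_injective, hD']
    refine ⟨D'.map S.subtype, bot_lt_iff_ne_bot.2 fun h => ?_,
      lt_of_le_of_ne (Subgroup.map_subtype_le D') fun h => ?_, fun Q hQS hQc => ?_, fun H hH _ N hN P => ?_⟩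
    · rw [h, Subgroup.card_bot] at hDc
      exact (Nat.one_lt_pow (by omega) hp.one_lt).ne hDc
    · rw [h, hn] at hDc
      have := Nat.pow_right_injective hp.two_le hDc
      omega
    · have hidx : (Q.subgroupOf S).index = p := by
        have h1 := Subgroup.card_mul_index (Q.subgroupOf S)
        rw [Nat.card_congr (Subgroup.subgroupOfEquivOfLe hQS).toEquiv, hQc, hDc, hn] at h1
        refine Nat.eq_of_mul_eq_mul_left (Nat.pow_pos hp.pos : 0 < p ^ (n - 1)) (h1.trans ?_)
        rw [← pow_succ, Nat.sub_add_cancel (by omega)]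
      have hQn : (Q.subgroupOf S).Normal := CfsgLib.FusionExtraspecial.normal_of_index_eq hS hidx
      refine ⟨⊥, stronglyClosed_bot F, ?_, ?_⟩
      · rw [sup_bot_eq]
        refine ⟨hQS, fun R hR φ hφ x => ?_⟩
        rw [hinner] at hφ
        obtain ⟨-, g, hg, hgx⟩ := hφ
        rw [hgx]
        exact hQn.conj_mem ⟨x, hQS (hR x.2)⟩ (hR x.2) ⟨g, hg⟩
      · rw [inf_bot_eq]
        exact stronglyClosed_bot F
    · ext φ
      constructor
      · intro hφ
        rw [hN P] at hφ
        obtain ⟨-, hPN, -, ψ, hψ, hag, hQψ⟩ := hφ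
        rw [hinner] at hψ
        obtain ⟨-, g, hg, hgx⟩ := hψ
        have : Finite H := finite_of_le hH.1
        have hgN : g ∈ Subgroup.normalizer (H : Set Ω) := by
          have hmap : H.map (MulAut.conj g).toMonoidHom = H := by
            conv_rhs => rw [← hQψ]
            ext y
            constructor
            · rintro ⟨h, hh, rfl⟩
              exact ⟨⟨h, Subgroup.mem_sup_right hh⟩, hh, hgx _⟩
            · rintro ⟨h, hh, rfl⟩
              exact ⟨h, hh, (hgx h).symm⟩
          exact Subgroup.mem_normalizer_iff_map_conj_eq.2 hmap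
        exact ⟨hPN, g, ⟨hg, hgN⟩, fun x => by rw [← hag x, hgx]; rfl⟩
      · rintro ⟨hP, g, hg, hgx⟩
        exact mem_of_eq_conj hP hg φ hgx
  · rintro ⟨D, -, hDS, hW, hN⟩ P
    have : Finite D := finite_of_le hDS.le
    obtain ⟨d, hd⟩ := (hS.to_le hDS.le).exists_card_eq
    have hlt : p ^ d < Nat.card S := by
      rw [← hd]
      by_contra h
      exact hDS.ne (Subgroup.eq_of_le_of_card_ge hDS.le (not_lt.1 h))
    rw [eq_inner hS hF hlt (fun Q hQ hQc => hW Q hQ (hQc.trans hd.symm))
      (fun H hH hHc => hN H hH (hHc.trans hd.symm))]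

end CfsgLib.FusionWeakEmb
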